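import Groth.Agent.H9Misc.PerfPic
import Groth.Agent.H23.PicMul
import Groth.Agent.PicClLib.Basic
import Groth.Agent.GalPic.Limit
import Mathlib.FieldTheory.PurelyInseparable.Exponent

/-!
Powers of classes descend along finite purely inseparable extensions.
-/

set_option autoImplicit false
set_option linter.unusedSectionVars false
set_option linter.style.haveILetI false
set_option backward.isDefEq.respectTransparency false
set_option backward.isDefEq.respectTransparency.types false

universe u

open CategoryTheory CategoryTheory.Limits AlgebraicGeometry Opposite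

noncomputable section

namespace Groth.Agent.InsepPic

open scoped Groth.Agent.H23.PicMul

variable (p : ℕ) [Fact p.Prime]

theorem frob_Spec (R : CommRingCat.{u}) [FrobSch.IsCharP (Spec R) p] (φ : R ⟶ R) (hφ : ∀ r, φ r = r ^ p) :
    FrobSch.frob (Spec R) p = Spec.map φ := by
  refine ext_of_isAffine ?_
  ext x
  let e := (Scheme.ΓSpecIso R).commRingCatIsoToRingEquiv
  have h : e ((Spec.map φ).appTop x) = φ (e x) :=
    ConcreteCategory.congr_hom (Scheme.ΓSpecIso_naturality φ) x
  refine e.injective ?_
  rw [h, hφ, FrobSch.frob_appTop, map_pow]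

theorem fi_Spec (K : Type u) [CommRing K] [FrobSch.IsCharP (Spec (CommRingCat.of K)) p] [CharP K p] (m : ℕ) :
    PerfModel7.fi p (Spec (CommRingCat.of K)) m = Spec.map (CommRingCat.ofHom (iterateFrobenius K p m)) := by
  induction m with
  | zero =>
    show 𝟙 _ = _
    rw [iterateFrobenius_zero]
    exact (Spec.map_id _).symm
  | succ m ih =>
    show PerfModel7.fi p _ m ≫ FrobSch.frob _ p = _
    rw [ih, frob_Spec p (CommRingCat.of K) (CommRingCat.ofHom (frobenius K p)) (fun r => rfl), ← Spec.map_comp]
    congr 1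
    ext x
    show iterateFrobenius K p m (frobenius K p x) = iterateFrobenius K p (m + 1) x
    rw [frobenius_def, map_pow, iterateFrobenius_def, iterateFrobenius_def, ← pow_mul, ← pow_succ]

variable {k : Type u} [Field k] [CharP k p] {X : Scheme.{u}} (f : X ⟶ Spec (CommRingCat.of k))
  (L : Type u) [Field L] [Algebra k L] [FiniteDimensional k L] [IsPurelyInseparable k L]

/-- **A power of a class descends along a finite purely inseparable extension.** -/
theorem exists_pow_descent :
    ∃ m : ℕ, (∀ d : PicF.Cl (GalPic.bc f L), PicF.IsInvertibleCl d → ∃ c : PicF.Cl X, PicF.IsInvertibleCl c ∧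
      PicF.pullCl (pullback.fst f (Spec.map (CommRingCat.ofHom (algebraMap k L)))) c = d ^ (p ^ m)) ∧
      ∀ c : PicF.Cl X, PicF.IsInvertibleCl c →
        PicF.pullCl (pullback.fst f (Spec.map (CommRingCat.ofHom (algebraMap k L)))) c = 1 → c ^ (p ^ m) = 1 := by
  haveI : ExpChar k p := ExpChar.prime Fact.out
  let m := IsPurelyInseparable.exponent k L
  let ψ : L →+* k := IsPurelyInseparable.iterateFrobenius k L p (le_refl m)
  haveI : CharP L p := charP_of_injective_algebraMap (algebraMap k L).injective p
  haveI : FrobSch.IsCharP (Spec (CommRingCat.of k)) p := inferInstance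
  haveI : FrobSch.IsCharP (Spec (CommRingCat.of L)) p := inferInstance
  haveI : FrobSch.IsCharP X p := FrobSch.IsCharP.of_hom f p
  haveI : FrobSch.IsCharP (GalPic.bc f L) p := FrobSch.IsCharP.of_hom (pullback.snd _ _ : GalPic.bc f L ⟶ Spec (CommRingCat.of L)) p
  let Φ : X ⟶ GalPic.bc f L := pullback.lift (PerfModel7.fi p X m) (f ≫ Spec.map (CommRingCat.ofHom ψ)) (by
    rw [PerfModel7.fi_comm, fi_Spec p k, Category.assoc, ← Spec.map_comp]
    congr 2
    ext x
    exact (IsPurelyInseparable.iterateFrobenius_algebraMap L p (le_refl m) x).symm)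
  have key : pullback.fst f (Spec.map (CommRingCat.ofHom (algebraMap k L))) ≫ Φ = PerfModel7.fi p (GalPic.bc f L) m := by
    refine pullback.hom_ext ?_ ?_
    · rw [Category.assoc, pullback.lift_fst]
      exact (PerfModel7.fi_comm p _ m).symm
    · rw [Category.assoc, pullback.lift_snd, ← Category.assoc, pullback.condition, Category.assoc,
        PerfModel7.fi_comm, fi_Spec p L, ← Spec.map_comp]
      congr 2
      ext x
      exact IsPurelyInseparable.algebraMap_iterateFrobenius k p (le_refl m) x
  refine ⟨m, ?_, ?_⟩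
  · rintro _ ⟨N, rfl, hN⟩
    refine ⟨PicF.pullCl Φ (PicF.cl N), PicClLib.isInvertibleCl_pullCl _ ⟨N, rfl, hN⟩, ?_⟩
    rw [PicClLib.pullCl_comp, key]
    exact H9Misc.PerfPic.pullCl_fi p hN m
  · rintro _ ⟨M, rfl, hM⟩ h
    have e : Φ ≫ pullback.fst f (Spec.map (CommRingCat.ofHom (algebraMap k L))) = PerfModel7.fi p X m :=
      pullback.lift_fst _ _ _
    rw [← H9Misc.PerfPic.pullCl_fi p hM m, ← e, ← PicClLib.pullCl_comp, h, H23.PicMul.pullCl_one]

end Groth.Agent.InsepPic
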