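import Groth.Agent.InsepPic.Finite
import Groth.Agent.LimPic.Iso
import Mathlib.FieldTheory.IntermediateField.Adjoin.Basic

/-!
Prime-to-`p` torsion classes descend along purely inseparable extensions.
-/

set_option autoImplicit false
set_option linter.unusedSectionVars false
set_option linter.style.haveILetI false
set_option backward.isDefEq.respectTransparency false
set_option backward.isDefEq.respectTransparency.types false
set_option maxHeartbeats 800000

universe u

open CategoryTheory CategoryTheory.Limits AlgebraicGeometry Opposite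

noncomputable section

namespace Groth.Agent.InsepPic

open scoped Groth.Agent.H23.PicMul
open GalPic (bc mI mI_fst mI_snd mI_id mI_comp isPullback_mI)

variable {k : Type u} [Field k] {X : Scheme.{u}} (f : X ⟶ Spec (CommRingCat.of k))
  (k' : Type u) [Field k'] [Algebra k k']

local notation "J" => (Finset k')ᵒᵖ

/-- The finitely generated subextensions. -/
abbrev adj (s : Finset k') : IntermediateField k k' := IntermediateField.adjoin k (s : Set k')

/-- The inclusion of finitely generated subextensions. -/
def inc {s t : Finset k'} (h : s ≤ t) : adj (k := k) k' s →ₐ[k] adj (k := k) k' t :=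
  IntermediateField.inclusion (IntermediateField.adjoin.mono k _ _ (Finset.coe_subset.2 h))

/-- The finitely generated subextensions as rings. -/
def rings : Finset k' ⥤ CommRingCat.{u} where
  obj s := CommRingCat.of (adj (k := k) k' s)
  map {s t} h := CommRingCat.ofHom (inc (k := k) k' (leOfHom h)).toRingHom

/-- Their union. -/
def cocone : Cocone (rings (k := k) k') where
  pt := CommRingCat.of k'
  ι := { app := fun s => CommRingCat.ofHom (adj (k := k) k' s).val.toRingHom }

/-- The union is the colimit. -/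
def isColimit : IsColimit (cocone (k := k) k') := by
  classical
  haveI : ReflectsColimit (rings (k := k) k') (forget CommRingCat.{u}) :=
    reflectsColimit_of_reflectsIsomorphisms _ _
  refine isColimitOfReflects (forget CommRingCat.{u}) ?_
  refine Types.FilteredColimit.isColimitOf' _ _ (fun z => ?_) fun s x y h => ?_
  · exact ⟨{z}, ⟨z, IntermediateField.subset_adjoin k _ (Finset.mem_coe.2 (Finset.mem_singleton_self z))⟩, rfl⟩
  · exact ⟨s, 𝟙 s, congrArg _ (Subtype.ext h)⟩

/-- The spectra. -/
abbrev base : J ⥤ Scheme.{u} := (rings (k := k) k').op ⋙ Scheme.Spec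

/-- The limit cone of spectra. -/
abbrev baseCone : Cone (base (k := k) k') := Scheme.Spec.mapCone (cocone (k := k) k').op

theorem incl_id (A : IntermediateField k k') : IntermediateField.inclusion (le_refl A) = AlgHom.id k A :=
  AlgHom.ext fun x => rfl

theorem incl_comp {A B C : IntermediateField k k'} (h : A ≤ B) (h' : B ≤ C) :
    IntermediateField.inclusion (h.trans h') = (IntermediateField.inclusion h').comp (IntermediateField.inclusion h) :=
  AlgHom.ext fun x => rfl

theorem val_incl {A B : IntermediateField k k'} (h : A ≤ B) : B.val.comp (IntermediateField.inclusion h) = A.val :=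
  AlgHom.ext fun x => rfl

theorem inc_id (s : Finset k') : inc (k := k) k' (le_refl s) = AlgHom.id k _ :=
  incl_id k' _

theorem inc_comp {s t v : Finset k'} (h : s ≤ t) (h' : t ≤ v) :
    inc (k := k) k' (h.trans h') = (inc (k := k) k' h').comp (inc (k := k) k' h) :=
  incl_comp k' _ _

theorem val_inc {s t : Finset k'} (h : s ≤ t) :
    (adj (k := k) k' t).val.comp (inc (k := k) k' h) = (adj (k := k) k' s).val :=
  val_incl k' _

/-- The base changes. -/
def sys : J ⥤ Scheme.{u} where
  obj s := bc f (adj (k := k) k' s.unop)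
  map {s t} h := mI f (inc k' (leOfHom h.unop))
  map_id s := (congrArg (mI f) (inc_id k' s.unop)).trans (mI_id f)
  map_comp {s t v} h h' := (congrArg (mI f) (inc_comp k' (leOfHom h'.unop) (leOfHom h.unop))).trans
    (mI_comp f (inc k' (leOfHom h'.unop)) (inc k' (leOfHom h.unop))).symm

/-- The cone. -/
def cone : Cone (sys f k') where
  pt := bc f k'
  π :=
    { app := fun s => mI f (adj (k := k) k' s.unop).val
      naturality := fun s t h => (Category.id_comp _).trans
        ((congrArg (mI f) (val_inc k' (leOfHom h.unop)).symm).trans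
          (mI_comp f (inc k' (leOfHom h.unop)) (adj (k := k) k' s.unop).val).symm) }

/-- The projection to the spectra. -/
def toBase : sys f k' ⟶ base (k := k) k' where
  app s := pullback.snd f (Spec.map (CommRingCat.ofHom (algebraMap k (adj (k := k) k' s.unop))))
  naturality _ _ h := mI_snd f (inc k' (leOfHom h.unop))

theorem cone_snd (s : J) :
    pullback.snd f (Spec.map (CommRingCat.ofHom (algebraMap k k'))) ≫ (baseCone (k := k) k').π.app s =
      (cone f k').π.app s ≫ (toBase f k').app s :=
  (mI_snd f (adj (k := k) k' s.unop).val).symm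

theorem cone_isPullback (s : J) :
    IsPullback ((cone f k').π.app s) (pullback.snd f (Spec.map (CommRingCat.ofHom (algebraMap k k'))))
      ((toBase f k').app s) ((baseCone (k := k) k').π.app s) :=
  isPullback_mI f (adj (k := k) k' s.unop).val

/-- The map of cones. -/
def coneHom : (Cone.postcompose (toBase f k')).obj (cone f k') ⟶ baseCone (k := k) k' where
  hom := pullback.snd f (Spec.map (CommRingCat.ofHom (algebraMap k k')))
  w s := cone_snd f k' s

/-- The limit. -/
def isLimit : IsLimit (cone f k') := by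
  classical
  haveI : PreservesLimitsOfSize.{u, u} Scheme.Spec.{u} := ΓSpec.adjunction.rightAdjoint_preservesLimits
  haveI : IsConnected J := IsCofiltered.isConnected _
  exact isLimitOfIsPullbackOfIsConnected (toBase f k') (cone f k') (baseCone (k := k) k') (coneHom f k')
    (cone_isPullback f k') (isLimitOfPreserves Scheme.Spec (isColimit (k := k) k').op)

instance {s t : J} (h : s ⟶ t) : IsAffineHom ((sys f k').map h) :=
  MorphismProperty.of_isPullback (isPullback_mI f (inc (k := k) k' (leOfHom h.unop))).flip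
    (inferInstanceAs (IsAffineHom (Spec.map _)))

instance isAffineHom_fst (s : J) :
    IsAffineHom (pullback.fst f (Spec.map (CommRingCat.ofHom (algebraMap k (adj (k := k) k' s.unop))))) :=
  MorphismProperty.pullback_fst _ _ inferInstance

instance [CompactSpace X] (s : J) : CompactSpace ((sys f k').obj s) :=
  QuasiCompact.compactSpace_of_compactSpace
    (pullback.fst f (Spec.map (CommRingCat.ofHom (algebraMap k (adj (k := k) k' s.unop)))))

instance [QuasiSeparatedSpace X] (s : J) : QuasiSeparatedSpace ((sys f k').obj s) :=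
  quasiSeparatedSpace_of_quasiSeparated
    (pullback.fst f (Spec.map (CommRingCat.ofHom (algebraMap k (adj (k := k) k' s.unop)))))

theorem isInvertibleCl_pow {Y : Scheme.{u}} {c : PicF.Cl Y} (hc : PicF.IsInvertibleCl c) (n : ℕ) :
    PicF.IsInvertibleCl (c ^ n) := by
  obtain ⟨M, rfl, hM⟩ := hc
  exact ⟨CohB1.tensorPow M n, H23.PicMul.cl_tensorPow M n, H23.PicMul.isInvertible_tensorPow hM n⟩

theorem pow_eq_self {M : Type*} [Monoid M] {d : M} {n a : ℕ} (hd : d ^ n = 1) (h : a ≡ 1 [MOD n]) : d ^ a = d := by
  rw [pow_eq_pow_mod a hd, h, ← pow_eq_pow_mod 1 hd, pow_one]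

/-- **Torsion classes of order prime to `p` descend along purely inseparable extensions.** -/
theorem exists_descent (p : ℕ) [Fact p.Prime] [CharP k p] [IsPurelyInseparable k k'] [CompactSpace X]
    [QuasiSeparatedSpace X] (n : ℕ) (hn : ¬ p ∣ n) (d : PicF.Cl (bc f k')) (hd : PicF.IsInvertibleCl d)
    (hdn : d ^ n = 1) :
    ∃ c : PicF.Cl X, PicF.IsInvertibleCl c ∧ c ^ n = 1 ∧
      PicF.pullCl (pullback.fst f (Spec.map (CommRingCat.ofHom (algebraMap k k')))) c = d := by
  classical
  obtain ⟨N, rfl, hN⟩ := hd
  obtain ⟨i, M, hM, ⟨e⟩⟩ := LimPic.exists_invertible (isLimit f k') N hN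
  have hMd : PicF.pullCl ((cone f k').π.app i) (PicF.cl M) = PicF.cl N := H23.PicMul.cl_eq_iff.2 ⟨e⟩
  have h1 : PicF.pullCl ((cone f k').π.app i) (PicF.cl (CohB1.tensorPow M n)) =
      PicF.pullCl ((cone f k').π.app i) (PicF.cl (Coh.structureModule _)) := by
    rw [H23.PicMul.cl_tensorPow, H23.PicMul.pullCl_pow, hMd, hdn, ← H23.PicMul.one_def, H23.PicMul.pullCl_one]
  obtain ⟨φ⟩ := H23.PicMul.cl_eq_iff.1 h1
  obtain ⟨j, ⟨φ'⟩⟩ := LimPic.exists_iso (isLimit f k') (i := i) (H23.PicMul.isInvertible_tensorPow hM n)
    (PicLoc.isInvertible_structureModule _) φ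
  let L := adj (k := k) k' j.left.unop
  haveI : FiniteDimensional k L :=
    IntermediateField.finiteDimensional_adjoin (fun x _ => Algebra.IsIntegral.isIntegral x)
  haveI : IsPurelyInseparable k L := IsPurelyInseparable.tower_bot k L k'
  let dL : PicF.Cl (bc f L) := PicF.pullCl ((sys f k').map j.hom) (PicF.cl M)
  have hdLn : dL ^ n = 1 := by
    show PicF.pullCl ((sys f k').map j.hom) (PicF.cl M) ^ n = 1
    rw [← H23.PicMul.pullCl_pow, ← H23.PicMul.cl_tensorPow]
    refine (H23.PicMul.cl_eq_iff.2 ⟨φ'⟩ : PicF.pullCl ((sys f k').map j.hom) (PicF.cl (CohB1.tensorPow M n)) =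
      PicF.pullCl ((sys f k').map j.hom) (PicF.cl (Coh.structureModule _))).trans ?_
    exact H23.PicMul.pullCl_one _
  obtain ⟨m, hm, hker⟩ := exists_pow_descent p f L
  obtain ⟨c₀, hc₀, hc₀d⟩ := hm dL (PicClLib.isInvertibleCl_pullCl _ ⟨M, rfl, hM⟩)
  have hp : Nat.Coprime (p ^ m) n := Nat.Coprime.pow_left m ((Fact.out : p.Prime).coprime_iff_not_dvd.2 hn)
  have hn0 : n ≠ 0 := fun h => hn (h ▸ dvd_zero p)
  obtain ⟨b, hb⟩ : ∃ b : ℕ, p ^ m * b ≡ 1 [MOD n] := by
    rcases Nat.lt_or_ge 1 n with h | h
    · obtain ⟨b, -, hb⟩ := Nat.exists_mul_mod_eq_one_of_coprime hp h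
      exact ⟨b, by rw [Nat.ModEq, hb, Nat.mod_eq_of_lt h]⟩
    · exact ⟨1, by obtain rfl : n = 1 := by omega
                   exact Nat.modEq_one⟩
  let fL := pullback.fst f (Spec.map (CommRingCat.ofHom (algebraMap k L)))
  have hc₁ : PicF.pullCl fL (c₀ ^ b) = dL := by
    rw [H23.PicMul.pullCl_pow, hc₀d, ← pow_mul]
    exact pow_eq_self hdLn hb
  have hc₁n : (c₀ ^ b) ^ (n * p ^ m) = 1 := by
    rw [pow_mul]
    refine hker _ (isInvertibleCl_pow (isInvertibleCl_pow hc₀ _) _) ?_
    rw [H23.PicMul.pullCl_pow, hc₁]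
    exact hdLn
  refine ⟨(c₀ ^ b) ^ (p ^ m * b), isInvertibleCl_pow (isInvertibleCl_pow hc₀ _) _, ?_, ?_⟩
  · rw [← pow_mul, show p ^ m * b * n = n * p ^ m * b by ring, pow_mul, hc₁n, one_pow]
  · have hcL : PicF.pullCl fL ((c₀ ^ b) ^ (p ^ m * b)) = dL := by
      rw [H23.PicMul.pullCl_pow, hc₁]
      exact pow_eq_self hdLn hb
    have hf : (cone f k').π.app j.left ≫ fL = pullback.fst f (Spec.map (CommRingCat.ofHom (algebraMap k k'))) :=
      mI_fst f _
    have hw : (cone f k').π.app j.left ≫ (sys f k').map j.hom = (cone f k').π.app i := (cone f k').w j.hom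
    exact (congrArg (fun g => PicF.pullCl g _) hf).symm.trans ((PicClLib.pullCl_comp _ _ _).symm.trans
      ((congrArg (PicF.pullCl ((cone f k').π.app j.left)) hcL).trans ((PicClLib.pullCl_comp _ _ _).trans
        ((congrArg (fun g => PicF.pullCl g (PicF.cl M)) hw).trans hMd))))

end Groth.Agent.InsepPic
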